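import Cfsg.Agent.H337.HT.Num
import Cfsg.Agent.H936.List12c
import Cfsg.Agent.H405.FamN
import Cfsg.Agent.H906.E9C
import Cfsg.Agent.H908.Frob8
import Cfsg.Agent.H921.SporCore
import Cfsg.Agent.H921.SporJ1
import Cfsg.Agent.H921.SporJ3
import Cfsg.Agent.H921.SporSuz
import Cfsg.Agent.H614.AMod.Main
import Cfsg.Agent.H937.G24.Row
import Cfsg.Agent.H913.S6.M22
import Cfsg.Agent.H13.M22.Stab
import Cfsg.Agent.H4.LDM.Stage24
import Cfsg.Agent.H916.SpSixK
import Cfsg.Agent.H916.OmD
import Cfsg.Agent.H659.HerAlt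
import Cfsg.Agent.H934.OutB
import Cfsg.Agent.MTwelveType.SylowModel
import Cfsg.Agent.Cit.TypeDet.Mathieu
import Cfsg.Agent.S0243
import Cfsg.Agent.S0280
import Cfsg.Agent.S0813
import Cfsg.Agent.S0815
import Cfsg.Agent.S2060
import Cfsg.Agent.S2061

/-!
# S3540, tasks K4a and K6a: cores of degree four and six of order prime to the characteristic (helper64)

* `four_cop` : `A₅`, `A₆`, `A₇`, `L₂(7)`, `U₄(2)`;
* `six_cop` : `Dead 6`, or `A₇`, `L₂(7)`, `L₂(13)`, `U₃(3)`, `L₃(4)`, `J₂`, `U₄(3)`.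
-/

set_option autoImplicit false
set_option linter.unusedSectionVars false

namespace Cfsg.Agent.H64.HTCop

open Cfsg Cfsg.Geo Matrix
open H915.LD (Core Soc)
open H912.Bd (IsL IsU IsS IsOP)
open H337.HT

universe u v

/-! ### Generalities -/

theorem not_lie {p : ℕ} [hp : Fact p.Prime] {S : Type u} [Group S] (h : ¬ p ∣ Nat.card S) : ¬ IsLieTypeChar p S := by
  intro hL
  obtain ⟨fam, f, d, -, hs, -⟩ := H405.FamN.exists_fam hp.out hL
  exact h hs.chr

theorem cast_ne0 {F : Type u} [Field F] (p : ℕ) [hp : Fact p.Prime] [CharP F p] {r : ℕ} (hr : r.Prime) (h : p ≠ r) :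
    (r : F) ≠ 0 := by
  intro h0
  rw [CharP.cast_eq_zero_iff F p] at h0
  exact h ((Nat.prime_dvd_prime_iff_eq hp.out hr).1 h0)

theorem two_ne0 {F : Type u} [Field F] (p : ℕ) [hp : Fact p.Prime] [CharP F p] (h : p ≠ 2) : (2 : F) ≠ 0 := by
  exact_mod_cast cast_ne0 (F := F) p Nat.prime_two h

theorem zero_or_one {K : Type v} [Field K] [Fintype K] (hK : Fintype.card K = 2) (x : K) : x = 0 ∨ x = 1 := by
  by_cases hx : x = 0
  · exact Or.inl hx
  · right
    have h3 := FiniteField.pow_card_sub_one_eq_one x hx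
    rwa [hK, pow_one] at h3

/-- `p ∤ |T|`, `T` of order divisible by `r`: `p ≠ r` -/
theorem ne_of_dvd {p r : ℕ} {c : ℕ} (h : ¬ p ∣ c) (hr : r ∣ c) : p ≠ r := by
  rintro rfl
  exact h hr

/-- the search for one `n` -/
theorem dead_of_loopQ {T : Type u} [Group T] {o A n : ℕ} (q₀ fq : ℕ) (ho : Nat.card T = o)
    (hA : Nat.card (MulAut T) = A) (hA0 : 0 < A) (h2 : 2 ≤ q₀) (hn : 2 ≤ n)
    (h1 : (List.range q₀).all (fun q => Nat.ble q 1 || Nat.ble 2 (Nat.gcd q o)) = true)
    (h : loopQ o A n fq q₀ = true) : Dead n T := by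
  intro q hq hc
  rw [ho] at hc ⊢
  rw [hA]
  exact loopQ_spec hn hA0 fq q₀ h2 h q (le_of_coprime h1 hq hc) hc

/-! ### Orders -/

theorem card_alt_five : Nat.card (alternatingGroup (Fin 5)) = 60 := by
  have h := H659.HerAlt.two_mul_card (c := 5) le_rfl
  rw [show Nat.factorial 5 = 120 from rfl] at h
  omega

theorem card_alt_six : Nat.card (alternatingGroup (Fin 6)) = 360 := by
  have h := H659.HerAlt.two_mul_card (c := 6) (by norm_num)
  rw [show Nat.factorial 6 = 720 from rfl] at h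
  omega

theorem two_dvd_alt {m : ℕ} (hm : 8 ≤ m) : 2 ∣ Nat.card (alternatingGroup (Fin m)) := by
  have h := H659.HerAlt.two_mul_card (c := m) (by omega)
  have h4 : 4 ∣ m.factorial := Nat.dvd_factorial (by norm_num) (by omega)
  omega

theorem card_l2 {K : Type} [Field K] [Fintype K] {q : ℕ} (hK : Fintype.card K = q) :
    (q - 1) * (Nat.gcd 2 (q - 1) * Nat.card (ProjectiveSpecialLinearGroup (Fin 2) K)) = (q ^ 2 - 1) * (q ^ 2 - q) := by
  have h := S0243.result hK 2 le_rfl
  rw [Fin.prod_univ_two] at h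
  rw [mul_left_comm]
  simpa [pow_zero, pow_one, mul_assoc] using h

theorem card_pgl2 {K : Type} [Field K] [Fintype K] {q : ℕ} (hK : Fintype.card K = q) :
    Nat.card (ProjGenLinGroup (Fin 2) K) * (q - 1) = (q ^ 2 - 1) * (q ^ 2 - q) := by
  have h1 := ClassicalGeometry.PSL2Basic.card_PGL_mul (Fin 2) K
  rw [Matrix.card_GL_field, hK, Fin.prod_univ_two] at h1
  simpa [pow_zero, pow_one] using h1

theorem card_u42 {K : Type} [Field K] [Fintype K] (hK : Fintype.card K = 2 ^ 2) : Nat.card (PSU 4 K 2) = 25920 := by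
  have h := S0280.result (F := K) (q := 2) hK 4 (by norm_num)
  simp [Finset.prod_range_succ, Nat.even_iff] at h
  omega

/-! ### Dead groups in degree six -/

theorem dead_A5 : Dead 6 (alternatingGroup (Fin 5)) :=
  dead_of_loopQ (o := 60) (A := 120) 7 20 card_alt_five (by rw [H659.HerAlt.card_aut le_rfl (by norm_num)]; rfl)
    (by norm_num) (by norm_num) (by norm_num) (by decide) (by decide)

theorem dead_l2_nine {K : Type} [Field K] [Fintype K] (hK : Fintype.card K = 9) :
    Dead 6 (ProjectiveSpecialLinearGroup (Fin 2) K) := by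
  have : Fact (Nat.Prime 3) := ⟨Nat.prime_three⟩
  have h1 := card_l2 hK
  have h2 := card_pgl2 hK
  have h3 := S0813.result (F := K) 3 2 (by norm_num) (by rw [hK]; norm_num) 2 le_rfl (fun _ => by norm_num)
  norm_num at h1 h2
  rw [if_pos rfl] at h3
  exact dead_of_loopQ (o := 360) (A := 1440) 7 40 (by omega) (by omega)
    (by norm_num) (by norm_num) (by norm_num) (by decide) (by decide)

theorem dead_l2_eleven {K : Type} [Field K] [Fintype K] (hK : Fintype.card K = 11) :
    Dead 6 (ProjectiveSpecialLinearGroup (Fin 2) K) := by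
  have : Fact (Nat.Prime 11) := ⟨by norm_num⟩
  have h1 := card_l2 hK
  have h2 := card_pgl2 hK
  have h3 := S0813.result (F := K) 11 1 le_rfl (by rw [hK]; norm_num) 2 le_rfl (fun _ => by norm_num)
  norm_num at h1 h2
  rw [if_pos rfl] at h3
  exact dead_of_loopQ (o := 660) (A := 1320) 7 40 (by omega) (by omega)
    (by norm_num) (by norm_num) (by norm_num) (by decide) (by decide)

theorem dead_u42 {K : Type} [Field K] [Fintype K] (hK : Fintype.card K = 2 ^ 2) : Dead 6 (PSU 4 K 2) := by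
  have : Fact (Nat.Prime 2) := ⟨Nat.prime_two⟩
  have h1 := card_u42 hK
  have h3 := S0815.result (F := K) 2 1 le_rfl (q := 2) (by norm_num) hK 4 (by norm_num) (by norm_num)
  rw [h1] at h3
  norm_num at h3
  exact dead_of_loopQ (o := 25920) (A := 51840) 7 400 h1 h3
    (by norm_num) (by norm_num) (by norm_num) (by decide) (by decide +kernel)

theorem dead_m11 {T : Type u} [Group T] [Finite T] [IsSimpleGroup T] (hna : ¬ IsMulCommutative T) (e : T ≃* Spor.M11) :
    Dead 6 T := by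
  have hc : Nat.card T = 7920 := (Nat.card_congr e.toEquiv).trans Cit.TypeDet.card_M11'
  have h1 := H934.OutB.card_out_mul T hna
  rw [H934.OutB.card_out_congr e, S2060.result, hc, one_mul] at h1
  exact dead_of_loopQ (o := 7920) (A := 7920) 7 100 hc h1.symm
    (by norm_num) (by norm_num) (by norm_num) (by decide) (by decide +kernel)

theorem dead_m12 {T : Type u} [Group T] [Finite T] [IsSimpleGroup T] (hna : ¬ IsMulCommutative T) (e : T ≃* Spor.M12) :
    Dead 6 T := by
  have hc : Nat.card T = 95040 := (Nat.card_congr e.toEquiv).trans MTwelveType.SylowModel.card_M12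
  have h1 := H934.OutB.card_out_mul T hna
  rw [H934.OutB.card_out_congr e, S2061.result, hc] at h1
  exact dead_of_loopQ (o := 95040) (A := 190080) 7 400 hc h1.symm
    (by norm_num) (by norm_num) (by norm_num) (by decide) (by decide +kernel)

theorem dvd_of_conf {r m : ℕ} (hr : r.Prime) {T : Type*} [Group T] [Finite T] (h : H921.Spor.Conf r m T) :
    r ∣ Nat.card T := by
  obtain ⟨E, e₀, S, hfin, hE, hEr, he₀, he₁, -⟩ := h
  have := Fact.mk hr
  have hnt : Nontrivial E := ⟨⟨⟨e₀, he₀⟩, 1, fun h => he₁ (congrArg Subtype.val h)⟩⟩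
  obtain ⟨n, hn0, hn⟩ := hEr.nontrivial_iff_card.1 hnt
  exact (dvd_pow_self r hn0.ne').trans (hn ▸ Subgroup.card_subgroup_dvd_card E)

theorem isSporadic {T : Type u} [Group T] (h : H936.List12.SporC T) : IsSporadicGroup T := by
  rcases h with h | h | h | h | h | h | h | h | h
  · exact Or.inl h
  · exact Or.inr (Or.inl h)
  · exact Or.inr (Or.inr (Or.inl h))
  · exact Or.inr (Or.inr (Or.inr (Or.inl h)))
  · exact Or.inr (Or.inr (Or.inr (Or.inr (Or.inl h))))
  · exact Or.inr (Or.inr (Or.inr (Or.inr (Or.inr (Or.inl h)))))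
  · exact Or.inr (Or.inr (Or.inr (Or.inr (Or.inr (Or.inr (Or.inl h))))))
  · exact Or.inr (Or.inr (Or.inr (Or.inr (Or.inr (Or.inr (Or.inr (Or.inl h)))))))
  · exact Or.inr (Or.inr (Or.inr (Or.inr (Or.inr (Or.inr (Or.inr (Or.inr (Or.inr (Or.inr (Or.inr (Or.inr (Or.inr
      (Or.inr (Or.inl h))))))))))))))

/-! ### Degree four -/

section

variable {F : Type u} [Field F] [Finite F] {p : ℕ} [hp : Fact p.Prime] [CharP F p]

/-- **Degree four.** -/
theorem four_cop {P : Subgroup (GL (Fin 4) F)} (hC : Core P) (hk : IsKnownSimple' (Soc P))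
    (hcop : ¬ p ∣ Nat.card (Soc P)) :
    Nonempty (Soc P ≃* alternatingGroup (Fin 5)) ∨ Nonempty (Soc P ≃* alternatingGroup (Fin 6)) ∨
    Nonempty (Soc P ≃* alternatingGroup (Fin 7)) ∨ IsL 2 7 (Soc P) ∨ IsU 4 2 (Soc P) := by
  have := Fintype.ofFinite F
  have hL := not_lie hcop
  have hs : IsSimpleGroup (Soc P) := hC.simple
  rcases H936.List12.list₂ (p := p) (n := 4) (by norm_num) hC hk hL with h | h | h | h | h
  · obtain ⟨m, h5, h14, h12, h10, -, ⟨e⟩⟩ := h
    have hm : m = 5 ∨ m = 6 ∨ m = 7 ∨ 8 ≤ m := by omega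
    rcases hm with rfl | rfl | rfl | hm
    · exact Or.inl ⟨e⟩
    · exact Or.inr (Or.inl ⟨e⟩)
    · exact Or.inr (Or.inr (Or.inl ⟨e⟩))
    · exfalso
      have hp2 : p ≠ 2 := ne_of_dvd hcop (by rw [Nat.card_congr e.toEquiv]; exact two_dvd_alt hm)
      exact H908.not_four_alt (two_ne0 p hp2) hC.perfect hm ⟨e⟩ (MulEquiv.refl _)
  · rcases h with ⟨q, hq, hpq, hqn, h⟩ | ⟨-, h1, -⟩ | ⟨h1, h2, h⟩ | ⟨-, h1, -⟩ | ⟨h1, h2, -, h⟩ | ⟨-, h1, -⟩ |
      ⟨-, h1, -⟩ | ⟨-, h1, -⟩ | ⟨-, h1, -⟩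
    · have h7 : q = 7 := by
        simp only [Finset.mem_insert, Finset.mem_singleton] at hq
        rcases hq with rfl | rfl | rfl | rfl | rfl | rfl | rfl | rfl <;> revert hqn <;> decide
      subst h7
      exact Or.inr (Or.inr (Or.inr (Or.inl h)))
    · omega
    · omega
    · omega
    · exact Or.inr (Or.inr (Or.inr (Or.inr h)))
    · omega
    · omega
    · omega
    · omega
  · rcases h with ⟨h1, -, h | h | ⟨h3, h⟩ | h | h | h⟩ | ⟨h1, h2, h⟩
    · exact Or.inr (Or.inr (Or.inr (Or.inl h)))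
    · exfalso
      obtain ⟨K, i1, i2, hK, ⟨e⟩⟩ := h
      have h3 : (3 : F) ≠ 0 := by
        have h3 : p ≠ 3 := by
          refine ne_of_dvd hcop ?_
          rw [Nat.card_congr e.toEquiv]
          have h := S0243.result (F := K) hK 3 (by norm_num)
          rw [Fin.prod_univ_three] at h
          norm_num at h
          omega
        exact_mod_cast cast_ne0 (F := F) p Nat.prime_three h3
      exact H906.T14.not_four_L34 h3 hC.perfect hK e
    · exact Or.inr (Or.inr (Or.inr (Or.inr h)))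
    · exfalso
      obtain ⟨K, i1, i2, hK, ⟨e⟩⟩ := h
      have := H916.SpSix.spSix_dim (zero_or_one hK) hC e (two_ne0 p h1) (by simp)
      simp at this
    · exfalso
      obtain ⟨K, i1, i2, hK, ⟨e⟩⟩ := h
      have := H916.Om.omega_dim (zero_or_one hK) hC e (two_ne0 p h1) (by simp)
      simp at this
    · exfalso
      obtain ⟨K, i1, i2, hK, ⟨e⟩⟩ := h
      have := H937.G24.core_ge hK (two_ne0 p h1) e
      simp at this
    · omega
  · omega
  · exfalso
    refine H921.Spor.core_four hC (Or.inl (isSporadic h))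

/-- `J₁`, degree six -/
theorem not_six_j1 {P : Subgroup (GL (Fin 6) F)} (hC : Core P) (hcop : ¬ p ∣ Nat.card (Soc P))
    (h : Spor.IsoJ1 (Soc P)) : False := by
  obtain ⟨e⟩ := h
  have h11 : Nat.Prime 11 := by norm_num
  have hd : 11 ∣ Nat.card (Soc P) := by
    rw [Nat.card_congr e.toEquiv]
    have := Finite.of_equiv _ e.toEquiv
    exact dvd_of_conf h11 H921.Spor.J1.J1_eleven
  have := ((H921.Spor.J1.J1_eleven.orb h11).bd h11 (cast_ne0 (F := F) p h11 (ne_of_dvd hcop hd))) 6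
    (H912.Bd.PR.of_perfect P hC.perfect h11 (by norm_num) e)
  omega

include p hp in
/-- `J₃`, degree six -/
theorem not_six_j3 {P : Subgroup (GL (Fin 6) F)} (hC : Core P) (h : Spor.IsoJ3 (Soc P)) : False := by
  obtain ⟨K, _, _, ω, hF, hω, ⟨e⟩⟩ := h
  have H := Cfsg.Agent.J3.Core.good_of_card hF hω
  by_cases h19 : p = 19
  · have h17 : Nat.Prime 17 := by norm_num
    have := (((H921.Spor.J3.J3_seventeen hF H).orb h17).bd h17 (cast_ne0 (F := F) p h17 (by omega))) 6
      (H912.Bd.PR.of_perfect P hC.perfect h17 (by norm_num) e)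
    omega
  · have hp19 : Nat.Prime 19 := by norm_num
    have := (((H921.Spor.J3.J3_nineteen hF H).orb hp19).bd hp19 (cast_ne0 (F := F) p hp19 h19)) 6
      (H912.Bd.PR.of_perfect P hC.perfect hp19 (by norm_num) e)
    omega

/-- sporadic groups, degree six -/
theorem six_spor {P : Subgroup (GL (Fin 6) F)} (hC : Core P) (hcop : ¬ p ∣ Nat.card (Soc P))
    (h : H936.List12.SporC (Soc P)) : Dead 6 (Soc P) ∨ Spor.IsoJ2 (Soc P) := by
  have := Fintype.ofFinite F
  have hs : IsSimpleGroup (Soc P) := hC.simple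
  rcases h with h | h | h | h | h | h | h | h | h
  · obtain ⟨e⟩ := h
    exact Or.inl (dead_m11 hC.nonabelian e)
  · obtain ⟨e⟩ := h
    exact Or.inl (dead_m12 hC.nonabelian e)
  · exfalso
    obtain ⟨e⟩ := h
    have hp2 : p ≠ 2 := ne_of_dvd hcop (by
      rw [Nat.card_congr e.toEquiv, H13.M22.card_M22]
      norm_num)
    have := H913.S6.m22_ge hC e (two_ne0 p hp2) (by simp)
    simp at this
  · exfalso
    obtain ⟨e⟩ := h
    have := (H4.LDM.Stage.m23_low hC e p (by simp)).2.1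
    simp at this
  · exfalso
    obtain ⟨e⟩ := h
    have := (H4.LDM.Stage.m24_low hC e p (by simp)).2.1
    simp at this
  · exact (not_six_j1 hC hcop h).elim
  · exact Or.inr h
  · exact (not_six_j3 (p := p) hC h).elim
  · exfalso
    obtain ⟨e⟩ := h
    have h11 : Nat.Prime 11 := by norm_num
    have hd : 11 ∣ Nat.card (Soc P) := by
      rw [Nat.card_congr e.toEquiv]
      have := Finite.of_equiv _ e.toEquiv
      exact dvd_of_conf h11 H921.Spor.Suz.Suz_eleven
    have := ((H921.Spor.Suz.Suz_eleven.orb h11).bd h11 (cast_ne0 (F := F) p h11 (ne_of_dvd hcop hd))) 6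
      (H912.Bd.PR.of_perfect P hC.perfect h11 (by norm_num) e)
    omega

/-- **Degree six.** -/
theorem six_cop {P : Subgroup (GL (Fin 6) F)} (hC : Core P) (hk : IsKnownSimple' (Soc P))
    (hcop : ¬ p ∣ Nat.card (Soc P)) :
    Dead 6 (Soc P) ∨ Nonempty (Soc P ≃* alternatingGroup (Fin 7)) ∨ IsL 2 7 (Soc P) ∨ IsL 2 13 (Soc P) ∨
    IsU 3 3 (Soc P) ∨ IsL 3 4 (Soc P) ∨ Spor.IsoJ2 (Soc P) ∨ IsU 4 3 (Soc P) := by
  have := Fintype.ofFinite F
  have hL := not_lie hcop
  have hs : IsSimpleGroup (Soc P) := hC.simple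
  rcases H936.List12.list₂ (p := p) (n := 6) (by norm_num) hC hk hL with h | h | h | h | h
  · obtain ⟨m, h5, h14, h12, h10, -, ⟨e⟩⟩ := h
    have hm : m = 5 ∨ m = 6 ∨ m = 7 ∨ 8 ≤ m := by omega
    rcases hm with rfl | rfl | rfl | hm
    · exact Or.inl (dead_A5.congr e.symm)
    · have : Fintype (GaloisField 3 2) := Fintype.ofFinite _
      have hc : Fintype.card (GaloisField 3 2) = 9 := by
        rw [← Nat.card_eq_fintype_card, GaloisField.card 3 2 (by norm_num)]
        norm_num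
      obtain ⟨e'⟩ := S0254.result hc
      exact Or.inl ((dead_l2_nine hc).congr (e'.trans e.symm))
    · exact Or.inr (Or.inl ⟨e⟩)
    · exfalso
      have hp2 : p ≠ 2 := ne_of_dvd hcop (by rw [Nat.card_congr e.toEquiv]; exact two_dvd_alt hm)
      rcases H614.AMod.Main.alt_cases hC p e hm (by simp) (fun h => hp2 h.2) with h | h | h
      · rcases h.dim hC hm p with ⟨-, h6⟩ | ⟨hd, h6⟩
        · rw [Fintype.card_fin] at h6
          omega
        · rw [Fintype.card_fin] at h6
          subst h6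
          exact hp2 ((Nat.prime_dvd_prime_iff_eq hp.out Nat.prime_two).1 (hp.out.dvd_of_dvd_pow (show p ∣ 2 ^ 3 from hd)))
      · have := h.n8
        simp at this
      · have := h.1
        simp at this
  · rcases h with ⟨q, hq, hpq, hqn, h⟩ | ⟨-, h1, -⟩ | ⟨h1, h2, h⟩ | ⟨-, h1, -⟩ | ⟨h1, h2, -, h⟩ | ⟨-, h1, -⟩ |
      ⟨-, h1, -⟩ | ⟨-, h1, -⟩ | ⟨-, h1, -⟩
    · have h7 : q = 7 ∨ q = 11 ∨ q = 13 := by
        simp only [Finset.mem_insert, Finset.mem_singleton] at hq
        rcases hq with rfl | rfl | rfl | rfl | rfl | rfl | rfl | rfl <;> revert hqn <;> decide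
      rcases h7 with rfl | rfl | rfl
      · exact Or.inr (Or.inr (Or.inl h))
      · obtain ⟨K, i1, i2, hK, ⟨e⟩⟩ := h
        exact Or.inl ((dead_l2_eleven hK).congr e.symm)
      · exact Or.inr (Or.inr (Or.inr (Or.inl h)))
    · omega
    · exact Or.inr (Or.inr (Or.inr (Or.inr (Or.inl h))))
    · omega
    · obtain ⟨K, i1, i2, hK, ⟨e⟩⟩ := h
      exact Or.inl ((dead_u42 hK).congr e.symm)
    · omega
    · omega
    · omega
    · omega
  · rcases h with ⟨h1, -, h | h | ⟨h3, h⟩ | h | h | h⟩ | ⟨h1, h2, h⟩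
    · exact Or.inr (Or.inr (Or.inl h))
    · exact Or.inr (Or.inr (Or.inr (Or.inr (Or.inr (Or.inl h)))))
    · obtain ⟨K, i1, i2, hK, ⟨e⟩⟩ := h
      exact Or.inl ((dead_u42 hK).congr e.symm)
    · exfalso
      obtain ⟨K, i1, i2, hK, ⟨e⟩⟩ := h
      have := H916.SpSix.spSix_dim (zero_or_one hK) hC e (two_ne0 p h1) (by simp)
      simp at this
    · exfalso
      obtain ⟨K, i1, i2, hK, ⟨e⟩⟩ := h
      have := H916.Om.omega_dim (zero_or_one hK) hC e (two_ne0 p h1) (by simp)
      simp at this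
    · exfalso
      obtain ⟨K, i1, i2, hK, ⟨e⟩⟩ := h
      have := H937.G24.core_ge hK (two_ne0 p h1) e
      simp at this
    · exact Or.inr (Or.inr (Or.inr (Or.inr (Or.inr (Or.inr (Or.inr h))))))
  · omega
  · rcases six_spor hC hcop h with h | h
    · exact Or.inl h
    · exact Or.inr (Or.inr (Or.inr (Or.inr (Or.inr (Or.inr (Or.inl h))))))

end

end Cfsg.Agent.H64.HTCop
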