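import Cfsg.Agent.H64.HT.Cop
import Cfsg.Agent.H918.U43.Main
import Cfsg.Agent.H921.SporM24
import Cfsg.Agent.H921.SporMore
import Cfsg.Agent.H921.SporJ2

/-!
# S3540: cores of degree three of order prime to the characteristic (helper64)

* `three_cop` : `A₅`, `A₆`, `L₂(7)`.
-/

set_option autoImplicit false
set_option linter.unusedSectionVars false

namespace Cfsg.Agent.H64.HTCop

open Cfsg Cfsg.Geo Matrix
open H915.LD (Core Soc)
open H912.Bd (IsL IsU IsS IsOP)
open H337.HT

universe u v

theorem dvd_of_orb {r m : ℕ} (hr : r.Prime) {T : Type*} [Group T] [Finite T] (h : H921.Spor.Orb r m T) :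
    r ∣ Nat.card T := by
  obtain ⟨E, e₀, k, hfin, hE, hEr, he₀, he₁, -⟩ := h
  have := Fact.mk hr
  have hnt : Nontrivial E := ⟨⟨⟨e₀, he₀⟩, 1, fun h => he₁ (congrArg Subtype.val h)⟩⟩
  have hp : IsPGroup r E := fun e => ⟨k, Subtype.ext (hEr e e.2)⟩
  obtain ⟨n, hn0, hn⟩ := hp.nontrivial_iff_card.1 hnt
  exact (dvd_pow_self r hn0.ne').trans (hn ▸ Subgroup.card_subgroup_dvd_card E)

section

variable {F : Type u} [Field F] [Finite F] {p : ℕ} [hp : Fact p.Prime] [CharP F p]

/-- orbits of length at least four for a prime `r ≠ 3` -/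
theorem not_three_orb {P : Subgroup (GL (Fin 3) F)} (hC : Core P) (hcop : ¬ p ∣ Nat.card (Soc P)) {r m : ℕ} (hr : r.Prime)
    (hr3 : ¬ r ∣ 3) (hm : 4 ≤ m) {T : Type} [Group T] (e : Soc P ≃* T) (h : H921.Spor.Orb r m T) : False := by
  have := Finite.of_equiv _ e.toEquiv
  have hd : r ∣ Nat.card (Soc P) := by
    rw [Nat.card_congr e.toEquiv]
    exact dvd_of_orb hr h
  have := (h.bd hr (cast_ne0 (F := F) p hr (ne_of_dvd hcop hd))) 3
    (H912.Bd.PR.of_perfect P hC.perfect hr hr3 e)
  omega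

/-- sporadic groups, degree three -/
theorem three_spor {P : Subgroup (GL (Fin 3) F)} (hC : Core P) (hcop : ¬ p ∣ Nat.card (Soc P))
    (h : H936.List12.SporC (Soc P)) : False := by
  rcases h with h | h | h | h | h | h | h | h | h
  · obtain ⟨e⟩ := h
    exact not_three_orb hC hcop (r := 11) (by norm_num) (by norm_num) (by norm_num) e
      (H921.Spor.M24.M11_eleven.orb (by norm_num))
  · obtain ⟨e⟩ := h
    exact not_three_orb hC hcop (r := 11) (by norm_num) (by norm_num) (by norm_num) e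
      (H921.Spor.M24.M12_eleven.orb (by norm_num))
  · obtain ⟨e⟩ := h
    exact not_three_orb hC hcop (r := 11) (by norm_num) (by norm_num) (by norm_num) e
      (H921.Spor.M24.M22_eleven.orb (by norm_num))
  · obtain ⟨e⟩ := h
    exact not_three_orb hC hcop (r := 23) (by norm_num) (by norm_num) (by norm_num) e
      (H921.Spor.M24.M23_twentythree.orb (by norm_num))
  · obtain ⟨e⟩ := h
    exact not_three_orb hC hcop (r := 11) (by norm_num) (by norm_num) (by norm_num) e
      (H921.Spor.M24.M24_eleven.orb (by norm_num))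
  · obtain ⟨e⟩ := h
    exact not_three_orb hC hcop (r := 11) (by norm_num) (by norm_num) (by norm_num) e
      (H921.Spor.J1.J1_eleven.orb (by norm_num))
  · obtain ⟨e⟩ := h
    exact not_three_orb hC hcop (r := 7) (by norm_num) (by norm_num) (by norm_num) e
      H921.Spor.J2.J2_seven
  · obtain ⟨K, _, _, ω, hF, hω, ⟨e⟩⟩ := h
    have H := Cfsg.Agent.J3.Core.good_of_card hF hω
    exact not_three_orb hC hcop (r := 19) (by norm_num) (by norm_num) (by norm_num) e
      ((H921.Spor.J3.J3_nineteen hF H).orb (by norm_num))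
  · obtain ⟨e⟩ := h
    exact not_three_orb hC hcop (r := 11) (by norm_num) (by norm_num) (by norm_num) e
      (H921.Spor.Suz.Suz_eleven.orb (by norm_num))

/-- **Degree three.** -/
theorem three_cop {P : Subgroup (GL (Fin 3) F)} (hC : Core P) (hk : IsKnownSimple' (Soc P))
    (hcop : ¬ p ∣ Nat.card (Soc P)) :
    Nonempty (Soc P ≃* alternatingGroup (Fin 5)) ∨ Nonempty (Soc P ≃* alternatingGroup (Fin 6)) ∨
    IsL 2 7 (Soc P) := by
  have := Fintype.ofFinite F
  have hL := not_lie hcop
  have hs : IsSimpleGroup (Soc P) := hC.simple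
  rcases H936.List12.list₂ (p := p) (n := 3) (by norm_num) hC hk hL with h | h | h | h | h
  · obtain ⟨m, h5, h14, h12, h10, -, ⟨e⟩⟩ := h
    have hm : m = 5 ∨ m = 6 ∨ 7 ≤ m := by omega
    rcases hm with rfl | rfl | hm
    · exact Or.inl ⟨e⟩
    · exact Or.inr (Or.inl ⟨e⟩)
    · exfalso
      have hd : 5 ∣ Nat.card (Soc P) := by
        rw [Nat.card_congr e.toEquiv]
        have h := H659.HerAlt.two_mul_card (c := m) (by omega)
        have h5 : 10 ∣ m.factorial := Nat.dvd_trans (by decide : 10 ∣ Nat.factorial 5) (Nat.factorial_dvd_factorial (by omega))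
        omega
      have h1 := H912.Bd.bd_alt_prime (F := F) Nat.prime_five (cast_ne0 (F := F) p Nat.prime_five (ne_of_dvd hcop hd))
        (n := m) hm 3 (H912.Bd.PR.of_perfect P hC.perfect Nat.prime_five (by norm_num) e)
      omega
  · rcases h with ⟨q, hq, hpq, hqn, h⟩ | ⟨-, h1, -⟩ | ⟨h1, h2, h⟩ | ⟨-, h1, -⟩ | ⟨h1, h0, h2, h⟩ | ⟨-, h1, -⟩ |
      ⟨-, h1, -⟩ | ⟨-, h1, -⟩ | ⟨-, h1, -⟩
    · have h7 : q = 7 := by
        simp only [Finset.mem_insert, Finset.mem_singleton] at hq
        rcases hq with rfl | rfl | rfl | rfl | rfl | rfl | rfl | rfl <;> revert hqn <;> decide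
      subst h7
      exact Or.inr (Or.inr h)
    · omega
    · omega
    · omega
    · omega
    · omega
    · omega
    · omega
    · omega
  · rcases h with ⟨h1, h2, -⟩ | ⟨h1, h2, h⟩
    · omega
    · exfalso
      obtain ⟨K, i1, i2, hK, ⟨e⟩⟩ := h
      have := (H918.U43.u43_core hC p h1 (by rw [hK]; norm_num) e (by simp)).1
      simp at this
  · omega
  · exact (three_spor hC hcop h).elim

end

end Cfsg.Agent.H64.HTCop
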